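-- Certificate checks for HNU2.
import Cfsg.Agent.Lib.Compute.TC.HNU2.Data
import Cfsg.Agent.Lib.Compute.TCSplit
set_option autoImplicit false
set_option Elab.async false
set_option maxRecDepth 1000000

open Cfsg.Agent.Lib.Compute.ToddCoxeterCore Cfsg.Agent.Lib.Compute.ToddCoxeterPresented Cfsg.Agent.Lib.Compute.TCFast

open Cfsg.Agent.Lib.Compute.TCSplit

namespace Cfsg.Agent.Lib.Compute.TC.HNU2

theorem finAllx0 : allFrom (cfg.chkFin (List.range cfg.L)) (nat_lit 15750) (nat_lit 0) = true := by decide +kernel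
theorem finAllx1 : allFrom (cfg.chkFin (List.range cfg.L)) (nat_lit 15750) (nat_lit 15750) = true := by decide +kernel
theorem finAllx2 : allFrom (cfg.chkFin (List.range cfg.L)) (nat_lit 15750) (nat_lit 31500) = true := by decide +kernel
theorem finAllx3 : allFrom (cfg.chkFin (List.range cfg.L)) (nat_lit 15750) (nat_lit 47250) = true := by decide +kernel
theorem finAllx4 : allFrom (cfg.chkFin (List.range cfg.L)) (nat_lit 15750) (nat_lit 63000) = true := by decide +kernel
theorem finAllx5 : allFrom (cfg.chkFin (List.range cfg.L)) (nat_lit 15750) (nat_lit 78750) = true := by decide +kernel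
theorem finAllx6 : allFrom (cfg.chkFin (List.range cfg.L)) (nat_lit 15750) (nat_lit 94500) = true := by decide +kernel
theorem finAllx7 : allFrom (cfg.chkFin (List.range cfg.L)) (nat_lit 15750) (nat_lit 110250) = true := by decide +kernel
theorem finAllx8 : allFrom (cfg.chkFin (List.range cfg.L)) (nat_lit 15750) (nat_lit 126000) = true := by decide +kernel
theorem finAllx9 : allFrom (cfg.chkFin (List.range cfg.L)) (nat_lit 15750) (nat_lit 141750) = true := by decide +kernel
theorem finAllx10 : allFrom (cfg.chkFin (List.range cfg.L)) (nat_lit 15750) (nat_lit 157500) = true := by decide +kernel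
theorem finAllx11 : allFrom (cfg.chkFin (List.range cfg.L)) (nat_lit 15750) (nat_lit 173250) = true := by decide +kernel
theorem finAllx12 : allFrom (cfg.chkFin (List.range cfg.L)) (nat_lit 15750) (nat_lit 189000) = true := by decide +kernel
theorem finAllx13 : allFrom (cfg.chkFin (List.range cfg.L)) (nat_lit 15750) (nat_lit 204750) = true := by decide +kernel
theorem finAllx14 : allFrom (cfg.chkFin (List.range cfg.L)) (nat_lit 15750) (nat_lit 220500) = true := by decide +kernel
theorem finAllx15 : allFrom (cfg.chkFin (List.range cfg.L)) (nat_lit 15750) (nat_lit 236250) = true := by decide +kernel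
theorem finAllc1 : allFrom (cfg.chkFin (List.range cfg.L)) (nat_lit 31500) (nat_lit 0) = true := join finAllx0 finAllx1 rfl rfl
theorem finAllc2 : allFrom (cfg.chkFin (List.range cfg.L)) (nat_lit 47250) (nat_lit 0) = true := join finAllc1 finAllx2 rfl rfl
theorem finAllc3 : allFrom (cfg.chkFin (List.range cfg.L)) (nat_lit 63000) (nat_lit 0) = true := join finAllc2 finAllx3 rfl rfl
theorem finAllc4 : allFrom (cfg.chkFin (List.range cfg.L)) (nat_lit 78750) (nat_lit 0) = true := join finAllc3 finAllx4 rfl rfl
theorem finAllc5 : allFrom (cfg.chkFin (List.range cfg.L)) (nat_lit 94500) (nat_lit 0) = true := join finAllc4 finAllx5 rfl rfl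
theorem finAllc6 : allFrom (cfg.chkFin (List.range cfg.L)) (nat_lit 110250) (nat_lit 0) = true := join finAllc5 finAllx6 rfl rfl
theorem finAllc7 : allFrom (cfg.chkFin (List.range cfg.L)) (nat_lit 126000) (nat_lit 0) = true := join finAllc6 finAllx7 rfl rfl
theorem finAllc8 : allFrom (cfg.chkFin (List.range cfg.L)) (nat_lit 141750) (nat_lit 0) = true := join finAllc7 finAllx8 rfl rfl
theorem finAllc9 : allFrom (cfg.chkFin (List.range cfg.L)) (nat_lit 157500) (nat_lit 0) = true := join finAllc8 finAllx9 rfl rfl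
theorem finAllc10 : allFrom (cfg.chkFin (List.range cfg.L)) (nat_lit 173250) (nat_lit 0) = true := join finAllc9 finAllx10 rfl rfl
theorem finAllc11 : allFrom (cfg.chkFin (List.range cfg.L)) (nat_lit 189000) (nat_lit 0) = true := join finAllc10 finAllx11 rfl rfl
theorem finAllc12 : allFrom (cfg.chkFin (List.range cfg.L)) (nat_lit 204750) (nat_lit 0) = true := join finAllc11 finAllx12 rfl rfl
theorem finAllc13 : allFrom (cfg.chkFin (List.range cfg.L)) (nat_lit 220500) (nat_lit 0) = true := join finAllc12 finAllx13 rfl rfl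
theorem finAllc14 : allFrom (cfg.chkFin (List.range cfg.L)) (nat_lit 236250) (nat_lit 0) = true := join finAllc13 finAllx14 rfl rfl
theorem finAll : allFrom (cfg.chkFin (List.range cfg.L)) (nat_lit 252000) (nat_lit 0) = true := join finAllc14 finAllx15 rfl rfl
theorem qAllx0 : allFrom cfg.chkQ (nat_lit 15750) (nat_lit 1) = true := by decide +kernel
theorem qAllx1 : allFrom cfg.chkQ (nat_lit 15750) (nat_lit 15751) = true := by decide +kernel
theorem qAllx2 : allFrom cfg.chkQ (nat_lit 15750) (nat_lit 31501) = true := by decide +kernel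
theorem qAllx3 : allFrom cfg.chkQ (nat_lit 15750) (nat_lit 47251) = true := by decide +kernel
theorem qAllx4 : allFrom cfg.chkQ (nat_lit 15750) (nat_lit 63001) = true := by decide +kernel
theorem qAllx5 : allFrom cfg.chkQ (nat_lit 15750) (nat_lit 78751) = true := by decide +kernel
theorem qAllx6 : allFrom cfg.chkQ (nat_lit 15750) (nat_lit 94501) = true := by decide +kernel
theorem qAllx7 : allFrom cfg.chkQ (nat_lit 15750) (nat_lit 110251) = true := by decide +kernel
theorem qAllx8 : allFrom cfg.chkQ (nat_lit 15750) (nat_lit 126001) = true := by decide +kernel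
theorem qAllx9 : allFrom cfg.chkQ (nat_lit 15750) (nat_lit 141751) = true := by decide +kernel
theorem qAllx10 : allFrom cfg.chkQ (nat_lit 15750) (nat_lit 157501) = true := by decide +kernel
theorem qAllx11 : allFrom cfg.chkQ (nat_lit 15750) (nat_lit 173251) = true := by decide +kernel
theorem qAllx12 : allFrom cfg.chkQ (nat_lit 15750) (nat_lit 189001) = true := by decide +kernel
theorem qAllx13 : allFrom cfg.chkQ (nat_lit 15750) (nat_lit 204751) = true := by decide +kernel
theorem qAllx14 : allFrom cfg.chkQ (nat_lit 15750) (nat_lit 220501) = true := by decide +kernel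
theorem qAllx15 : allFrom cfg.chkQ (nat_lit 15749) (nat_lit 236251) = true := by decide +kernel
theorem qAllc1 : allFrom cfg.chkQ (nat_lit 31500) (nat_lit 1) = true := join qAllx0 qAllx1 rfl rfl
theorem qAllc2 : allFrom cfg.chkQ (nat_lit 47250) (nat_lit 1) = true := join qAllc1 qAllx2 rfl rfl
theorem qAllc3 : allFrom cfg.chkQ (nat_lit 63000) (nat_lit 1) = true := join qAllc2 qAllx3 rfl rfl
theorem qAllc4 : allFrom cfg.chkQ (nat_lit 78750) (nat_lit 1) = true := join qAllc3 qAllx4 rfl rfl
theorem qAllc5 : allFrom cfg.chkQ (nat_lit 94500) (nat_lit 1) = true := join qAllc4 qAllx5 rfl rfl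
theorem qAllc6 : allFrom cfg.chkQ (nat_lit 110250) (nat_lit 1) = true := join qAllc5 qAllx6 rfl rfl
theorem qAllc7 : allFrom cfg.chkQ (nat_lit 126000) (nat_lit 1) = true := join qAllc6 qAllx7 rfl rfl
theorem qAllc8 : allFrom cfg.chkQ (nat_lit 141750) (nat_lit 1) = true := join qAllc7 qAllx8 rfl rfl
theorem qAllc9 : allFrom cfg.chkQ (nat_lit 157500) (nat_lit 1) = true := join qAllc8 qAllx9 rfl rfl
theorem qAllc10 : allFrom cfg.chkQ (nat_lit 173250) (nat_lit 1) = true := join qAllc9 qAllx10 rfl rfl
theorem qAllc11 : allFrom cfg.chkQ (nat_lit 189000) (nat_lit 1) = true := join qAllc10 qAllx11 rfl rfl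
theorem qAllc12 : allFrom cfg.chkQ (nat_lit 204750) (nat_lit 1) = true := join qAllc11 qAllx12 rfl rfl
theorem qAllc13 : allFrom cfg.chkQ (nat_lit 220500) (nat_lit 1) = true := join qAllc12 qAllx13 rfl rfl
theorem qAllc14 : allFrom cfg.chkQ (nat_lit 236250) (nat_lit 1) = true := join qAllc13 qAllx14 rfl rfl
theorem qAll : allFrom cfg.chkQ (nat_lit 251999) (nat_lit 1) = true := join qAllc14 qAllx15 rfl rfl
theorem lblAllx0 : allFrom cfg.chkLbl (nat_lit 33650) (nat_lit 1) = true := by decide +kernel
theorem lblAllx1 : allFrom cfg.chkLbl (nat_lit 33650) (nat_lit 33651) = true := by decide +kernel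
theorem lblAllx2 : allFrom cfg.chkLbl (nat_lit 33650) (nat_lit 67301) = true := by decide +kernel
theorem lblAllx3 : allFrom cfg.chkLbl (nat_lit 33650) (nat_lit 100951) = true := by decide +kernel
theorem lblAllx4 : allFrom cfg.chkLbl (nat_lit 33649) (nat_lit 134601) = true := by decide +kernel
theorem lblAllx5 : allFrom cfg.chkLbl (nat_lit 33649) (nat_lit 168250) = true := by decide +kernel
theorem lblAllx6 : allFrom cfg.chkLbl (nat_lit 33649) (nat_lit 201899) = true := by decide +kernel
theorem lblAllx7 : allFrom cfg.chkLbl (nat_lit 33649) (nat_lit 235548) = true := by decide +kernel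
theorem lblAllx8 : allFrom cfg.chkLbl (nat_lit 33649) (nat_lit 269197) = true := by decide +kernel
theorem lblAllx9 : allFrom cfg.chkLbl (nat_lit 33649) (nat_lit 302846) = true := by decide +kernel
theorem lblAllx10 : allFrom cfg.chkLbl (nat_lit 33649) (nat_lit 336495) = true := by decide +kernel
theorem lblAllx11 : allFrom cfg.chkLbl (nat_lit 33649) (nat_lit 370144) = true := by decide +kernel
theorem lblAllx12 : allFrom cfg.chkLbl (nat_lit 33649) (nat_lit 403793) = true := by decide +kernel
theorem lblAllx13 : allFrom cfg.chkLbl (nat_lit 33649) (nat_lit 437442) = true := by decide +kernel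
theorem lblAllx14 : allFrom cfg.chkLbl (nat_lit 33649) (nat_lit 471091) = true := by decide +kernel
theorem lblAllx15 : allFrom cfg.chkLbl (nat_lit 33649) (nat_lit 504740) = true := by decide +kernel
theorem lblAllc1 : allFrom cfg.chkLbl (nat_lit 67300) (nat_lit 1) = true := join lblAllx0 lblAllx1 rfl rfl
theorem lblAllc2 : allFrom cfg.chkLbl (nat_lit 100950) (nat_lit 1) = true := join lblAllc1 lblAllx2 rfl rfl
theorem lblAllc3 : allFrom cfg.chkLbl (nat_lit 134600) (nat_lit 1) = true := join lblAllc2 lblAllx3 rfl rfl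
theorem lblAllc4 : allFrom cfg.chkLbl (nat_lit 168249) (nat_lit 1) = true := join lblAllc3 lblAllx4 rfl rfl
theorem lblAllc5 : allFrom cfg.chkLbl (nat_lit 201898) (nat_lit 1) = true := join lblAllc4 lblAllx5 rfl rfl
theorem lblAllc6 : allFrom cfg.chkLbl (nat_lit 235547) (nat_lit 1) = true := join lblAllc5 lblAllx6 rfl rfl
theorem lblAllc7 : allFrom cfg.chkLbl (nat_lit 269196) (nat_lit 1) = true := join lblAllc6 lblAllx7 rfl rfl
theorem lblAllc8 : allFrom cfg.chkLbl (nat_lit 302845) (nat_lit 1) = true := join lblAllc7 lblAllx8 rfl rfl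
theorem lblAllc9 : allFrom cfg.chkLbl (nat_lit 336494) (nat_lit 1) = true := join lblAllc8 lblAllx9 rfl rfl
theorem lblAllc10 : allFrom cfg.chkLbl (nat_lit 370143) (nat_lit 1) = true := join lblAllc9 lblAllx10 rfl rfl
theorem lblAllc11 : allFrom cfg.chkLbl (nat_lit 403792) (nat_lit 1) = true := join lblAllc10 lblAllx11 rfl rfl
theorem lblAllc12 : allFrom cfg.chkLbl (nat_lit 437441) (nat_lit 1) = true := join lblAllc11 lblAllx12 rfl rfl
theorem lblAllc13 : allFrom cfg.chkLbl (nat_lit 471090) (nat_lit 1) = true := join lblAllc12 lblAllx13 rfl rfl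
theorem lblAllc14 : allFrom cfg.chkLbl (nat_lit 504739) (nat_lit 1) = true := join lblAllc13 lblAllx14 rfl rfl
theorem lblAll : allFrom cfg.chkLbl (nat_lit 538388) (nat_lit 1) = true := join lblAllc14 lblAllx15 rfl rfl

end Cfsg.Agent.Lib.Compute.TC.HNU2
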