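-- Final assembly of the certificate HNU2.
import Cfsg.Agent.Lib.Compute.TC.HNU2.Keys0
import Cfsg.Agent.Lib.Compute.TC.HNU2.Keys1
import Cfsg.Agent.Lib.Compute.TC.HNU2.Keys2
import Cfsg.Agent.Lib.Compute.TC.HNU2.Keys3
import Cfsg.Agent.Lib.Compute.TC.HNU2.Keys4
import Cfsg.Agent.Lib.Compute.TC.HNU2.Keys5
import Cfsg.Agent.Lib.Compute.TC.HNU2.Keys6
import Cfsg.Agent.Lib.Compute.TC.HNU2.Keys7
import Cfsg.Agent.Lib.Compute.TC.HNU2.Keys8
import Cfsg.Agent.Lib.Compute.TC.HNU2.Keys9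
import Cfsg.Agent.Lib.Compute.TC.HNU2.Keys10
import Cfsg.Agent.Lib.Compute.TC.HNU2.Keys11
import Cfsg.Agent.Lib.Compute.TC.HNU2.Keys12
import Cfsg.Agent.Lib.Compute.TC.HNU2.Keys13
import Cfsg.Agent.Lib.Compute.TC.HNU2.Keys14
import Cfsg.Agent.Lib.Compute.TC.HNU2.Keys15
import Cfsg.Agent.Lib.Compute.TC.HNU2.Keys16
import Cfsg.Agent.Lib.Compute.TC.HNU2.Keys17
import Cfsg.Agent.Lib.Compute.TC.HNU2.Keys18
import Cfsg.Agent.Lib.Compute.TC.HNU2.Keys19
import Cfsg.Agent.Lib.Compute.TC.HNU2.Keys20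
import Cfsg.Agent.Lib.Compute.TC.HNU2.Keys21
import Cfsg.Agent.Lib.Compute.TC.HNU2.Keys22
import Cfsg.Agent.Lib.Compute.TC.HNU2.Keys23
import Cfsg.Agent.Lib.Compute.TC.HNU2.Keys24
import Cfsg.Agent.Lib.Compute.TC.HNU2.Keys25
import Cfsg.Agent.Lib.Compute.TC.HNU2.Keys26
import Cfsg.Agent.Lib.Compute.TC.HNU2.Keys27
import Cfsg.Agent.Lib.Compute.TC.HNU2.Keys28
import Cfsg.Agent.Lib.Compute.TC.HNU2.Keys29
import Cfsg.Agent.Lib.Compute.TC.HNU2.Keys30
import Cfsg.Agent.Lib.Compute.TC.HNU2.Keys31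
import Cfsg.Agent.Lib.Compute.TC.HNU2.Rel0
import Cfsg.Agent.Lib.Compute.TC.HNU2.Rel1
import Cfsg.Agent.Lib.Compute.TC.HNU2.Rel2
import Cfsg.Agent.Lib.Compute.TC.HNU2.Rel3
import Cfsg.Agent.Lib.Compute.TC.HNU2.Rel4
import Cfsg.Agent.Lib.Compute.TC.HNU2.Rel5
import Cfsg.Agent.Lib.Compute.TC.HNU2.Rel6
import Cfsg.Agent.Lib.Compute.TC.HNU2.Rel7
import Cfsg.Agent.Lib.Compute.TC.HNU2.Rel8
import Cfsg.Agent.Lib.Compute.TC.HNU2.Rel9
import Cfsg.Agent.Lib.Compute.TC.HNU2.Rel10
import Cfsg.Agent.Lib.Compute.TC.HNU2.Rel11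
import Cfsg.Agent.Lib.Compute.TC.HNU2.Rel12
import Cfsg.Agent.Lib.Compute.TC.HNU2.Rel13
import Cfsg.Agent.Lib.Compute.TC.HNU2.Rel14
import Cfsg.Agent.Lib.Compute.TC.HNU2.Rel15
import Cfsg.Agent.Lib.Compute.TC.HNU2.Rel16
import Cfsg.Agent.Lib.Compute.TC.HNU2.Rel17
import Cfsg.Agent.Lib.Compute.TC.HNU2.Rel18
import Cfsg.Agent.Lib.Compute.TC.HNU2.Rel19
import Cfsg.Agent.Lib.Compute.TC.HNU2.Rel20
import Cfsg.Agent.Lib.Compute.TC.HNU2.Rel21
import Cfsg.Agent.Lib.Compute.TC.HNU2.Fin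
set_option autoImplicit false
set_option maxRecDepth 1000000

open Cfsg.Agent.Lib.Compute.ToddCoxeterCore Cfsg.Agent.Lib.Compute.ToddCoxeterPresented Cfsg.Agent.Lib.Compute.TCFast

namespace Cfsg.Agent.Lib.Compute.TC.HNU2

theorem rulesChk : rulesOK cfg.L cfg.inv relsL rT = true := by decide +kernel

theorem small : Small D cfg where
  hL := by decide +kernel
  hLp := by decide +kernel
  hnd := by decide +kernel
  hinvL := by decide +kernel
  hinvP := by decide +kernel
  hinv2 := by decide +kernel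
  hinvol := by decide +kernel
  hrels1 := by decide +kernel
  hrels2 := by decide +kernel
  hhw := by decide +kernel
  hN := by decide +kernel

theorem w0Chk : ∀ w ∈ D.hw, cfg.walk maxS w 0 (Nat.beq 0) = true := by decide +kernel

theorem keysFull : ∀ k, k < cfg.M → cfg.chkKey k = true := fun k hk =>
  (allFrom_chain (allFrom_chain (allFrom_chain (allFrom_chain (allFrom_chain (allFrom_chain (allFrom_chain (allFrom_chain (allFrom_chain (allFrom_chain (allFrom_chain (allFrom_chain (allFrom_chain (allFrom_chain (allFrom_chain (allFrom_chain (allFrom_chain (allFrom_chain (allFrom_chain (allFrom_chain (allFrom_chain (allFrom_chain (allFrom_chain (allFrom_chain (allFrom_chain (allFrom_chain (allFrom_chain (allFrom_chain (allFrom_chain (allFrom_chain (allFrom_chain (allFrom_chain (allFrom_nil cfg.chkKey (nat_lit 0)) keys0 (c := 74999) rfl) keys1 (c := 149999) rfl) keys2 (c := 224999) rfl) keys3 (c := 299999) rfl) keys4 (c := 374999) rfl) keys5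 (c := 449999) rfl) keys6 (c := 524999) rfl) keys7 (c := 599999) rfl) keys8 (c := 674999) rfl) keys9 (c := 749999) rfl) keys10 (c := 824999) rfl) keys11 (c := 899999) rfl) keys12 (c := 974999) rfl) keys13 (c := 1049999) rfl) keys14 (c := 1124999) rfl) keys15 (c := 1199999) rfl) keys16 (c := 1274597) rfl) keys17 (c := 1350217) rfl) keys18 (c := 1431567) rfl) keys19 (c := 1517369) rfl) keys20 (c := 1604536) rfl) keys21 (c := 1696410) rfl) keys22 (c := 1790976) rfl) keys23 (c := 1886086) rfl) keys24 (c := 1984081) rfl) keys25 (c := 2087425) rfl) keys26 (c := 2190136) rfl) keys27 (c := 2293364) rfl) keys28 (c := 2401035) rfl) keys29 (c := 2513429) rfl) keys30 (c := 2622531) rfl) keys31 (c := 2691945) rfl) k (Nat.zero_le k) hk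

theorem relLt : ∀ a ∈ relsL, ∀ x ∈ a, x < cfg.L := by decide +kernel

theorem relFast : ∀ k, k < cfg.N → chkRelF cfg relsL k = true := fun k hk =>
  (allFrom_chain (allFrom_chain (allFrom_chain (allFrom_chain (allFrom_chain (allFrom_chain (allFrom_chain (allFrom_chain (allFrom_chain (allFrom_chain (allFrom_chain (allFrom_chain (allFrom_chain (allFrom_chain (allFrom_chain (allFrom_chain (allFrom_chain (allFrom_chain (allFrom_chain (allFrom_chain (allFrom_chain (allFrom_chain (allFrom_nil (chkRelF cfg relsL) (nat_lit 0)) rel0 (c := 11764) rfl) rel1 (c := 23528) rfl) rel2 (c := 35292) rfl) rel3 (c := 47056) rfl) rel4 (c := 58820) rfl) rel5 (c := 70584) rfl) rel6 (c := 82348) rfl) rel7 (c := 94112) rfl) rel8 (c := 105876) rfl) rel9 (c := 117640) rfl) rel10 (c := 129404) rfl) rel11 (c := 141168) rfl) rel12 (c := 152932) rfl) rel13 (c := 164696) rfl) rel14 (c := 176460) rfl) rel15 (c := 188224) rfl) rel16 (c := 199988) rfl) rel17 (c := 211752)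 rfl) rel18 (c := 223516) rfl) rel19 (c := 235280) rfl) rel20 (c := 247044) rfl) rel21 (c := 252000) rfl) k (Nat.zero_le k) hk

theorem finFull : ∀ i, i < cfg.N → cfg.chkFin (List.range cfg.L) i = true := fun i hi =>
  allFrom_all finAll rfl i (Nat.zero_le i) hi

theorem relFull : ∀ k, k < cfg.N → cfg.chkRel relsL k = true := fun k hk =>
  chkRel_of_fast finFull relLt hk (relFast k hk)

theorem big : Big D cfg where
  hwords := fun _ => rfl
  hrules := fun r => rulesOK_spec rulesChk r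
  hw0 := w0Chk
  hkeys := keysFull
  hlbl := fun j hj hj' => allFrom_all lblAll rfl j (Nat.pos_of_ne_zero hj) hj'
  hfin := finFull
  hq := fun i hi hi' => allFrom_all qAll rfl i (Nat.pos_of_ne_zero hi) hi'
  hrel := relFull

theorem hgens : ∀ a, (a, true) ∈ D.lets := by intro a; fin_cases a <;> decide

/-- the relators as a set -/
abbrev RR : Set (FreeGroup (Fin 2)) := {r | r ∈ Cfsg.Agent.Lib.Compute.TC.HNRel.rsU}

theorem hR : ∀ r, r ∈ RR ↔ r ∈ D.rs := fun _ => Iff.rfl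

/-- The index of the subgroup. -/
theorem index : (HOf RR D.Hs).index = 252000 :=
  index_eq hR small big hgens

end Cfsg.Agent.Lib.Compute.TC.HNU2
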